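import Groth.Agent.SwanSeminormLib.Basic
import Groth.Agent.AWNLib.Local
import Mathlib

/-! Spreading a generator of an invertible module over `R[X]` from a seminormal local ring. -/

set_option autoImplicit false
set_option linter.all false
set_option backward.isDefEq.respectTransparency.types false

universe u

open Polynomial TensorProduct

namespace Groth.Agent.PicA1Lib

theorem isSeminormalRing_localization {A : Type u} [CommRing A] (M : Submonoid A) (S : Type u) [CommRing S]
    [Algebra A S] [IsLocalization M S] (h : HTop.IsSeminormalRing A) : HTop.IsSeminormalRing S := by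
  haveI := AWNLib.isReduced_of_isSeminormalRing h
  haveI : IsReduced S := isReduced_localizationPreserves M S inferInstance
  intro x y hxy
  obtain ⟨⟨a, s⟩, hx⟩ := IsLocalization.surj M x
  obtain ⟨⟨b, t⟩, hy⟩ := IsLocalization.surj M y
  dsimp only at hx hy
  have hs := IsLocalization.map_units S s
  have ht := IsLocalization.map_units S t
  generalize hσ : algebraMap A S (s : A) = σ at hx hs
  generalize hτ : algebraMap A S (t : A) = τ at hy ht
  -- `x * w ^ 2` and `y * w ^ 3` come from `A`, where `w = s * t`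
  have hx' : x * (σ * τ) ^ 2 = algebraMap A S (a * ((s : A) * (t : A) ^ 2)) := by
    rw [map_mul, map_mul, map_pow, hσ, hτ, ← hx]; ring
  have hy' : y * (σ * τ) ^ 3 = algebraMap A S (b * ((s : A) ^ 3 * (t : A) ^ 2)) := by
    rw [map_mul, map_mul, map_pow, map_pow, hσ, hτ, ← hy]; ring
  generalize a * ((s : A) * (t : A) ^ 2) = x₁ at hx'
  generalize b * ((s : A) ^ 3 * (t : A) ^ 2) = y₁ at hy'
  obtain ⟨u, hu⟩ := (IsLocalization.eq_iff_exists M S).1 (show algebraMap A S (x₁ ^ 3) = algebraMap A S (y₁ ^ 2) by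
    rw [map_pow, map_pow, ← hx', ← hy']; linear_combination (σ * τ) ^ 6 * hxy)
  obtain ⟨c, ⟨h2, h3⟩, -⟩ := h ((u : A) ^ 2 * x₁) ((u : A) ^ 3 * y₁) (by
    linear_combination (u : A) ^ 5 * hu)
  obtain ⟨w, hw⟩ : IsUnit (algebraMap A S (u : A) * (σ * τ)) :=
    (IsLocalization.map_units S u).mul (hs.mul ht)
  have e2 : x = (algebraMap A S c * ↑w⁻¹) ^ 2 := by
    rw [mul_pow, ← map_pow, ← h2, map_mul, map_pow, ← hx',
      show algebraMap A S (u : A) ^ 2 * (x * (σ * τ) ^ 2) = x * (algebraMap A S (u : A) * (σ * τ)) ^ 2 by ring,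
      ← hw, mul_assoc, ← mul_pow, Units.mul_inv, one_pow, mul_one]
  have e3 : y = (algebraMap A S c * ↑w⁻¹) ^ 3 := by
    rw [mul_pow, ← map_pow, ← h3, map_mul, map_pow, ← hy',
      show algebraMap A S (u : A) ^ 3 * (y * (σ * τ) ^ 3) = y * (algebraMap A S (u : A) * (σ * τ)) ^ 3 by ring,
      ← hw, mul_assoc, ← mul_pow, Units.mul_inv, one_pow, mul_one]
  exact ⟨_, ⟨e2, e3⟩, fun d hd => AWNLib.eq_of_sq_eq_of_cube_eq (hd.1.symm.trans e2) (hd.2.symm.trans e3)⟩

theorem exists_smul_eq_tmul {B A M : Type u} [CommRing B] [CommRing A] [Algebra B A] [AddCommGroup M] [Module B M]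
    (S : Submonoid B) [IsLocalization S A] (x : A ⊗[B] M) :
    ∃ s ∈ S, ∃ a : M, algebraMap B A s • x = (1 : A) ⊗ₜ[B] a := by
  induction x with
  | zero => exact ⟨1, S.one_mem, 0, by simp⟩
  | tmul c a =>
    obtain ⟨⟨b, s⟩, hb⟩ := IsLocalization.surj S c
    refine ⟨s, s.2, b • a, ?_⟩
    rw [TensorProduct.smul_tmul', smul_eq_mul, mul_comm, hb, TensorProduct.tmul_smul, TensorProduct.smul_tmul',
      Algebra.smul_def, mul_one]
  | add x y hx hy =>
    obtain ⟨s, hs, a, ha⟩ := hx
    obtain ⟨t, ht, b, hb⟩ := hy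
    refine ⟨s * t, S.mul_mem hs ht, t • a + s • b, ?_⟩
    rw [map_mul, smul_add, tmul_add, mul_comm, mul_smul, ha, mul_comm, mul_smul, hb,
      TensorProduct.tmul_smul, TensorProduct.tmul_smul, algebraMap_smul, algebraMap_smul]

/-- A module over `B ≅ R[X]` which is invertible is, near a prime `p` of `R`, generated by one element, if `R` is
a seminormal domain. -/
theorem exists_gen_spread {R B : Type u} [CommRing R] [IsDomain R] [CommRing B]
    (hR : HTop.IsSeminormalRing R) (p : Ideal R) [p.IsPrime] (e : R[X] ≃+* B)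
    (M : Type u) [AddCommGroup M] [Module B M] [Module.Invertible B M] :
    ∃ (m : M) (s : R), s ∉ p ∧ ∀ a : M, ∃ r : B, e (C s) • a = r • m := by
  classical
  letI : Module R[X] M := Module.compHom M (e : R[X] →+* B)
  letI : Algebra B R[X] := (e.symm : B →+* R[X]).toAlgebra
  let Rp := Localization.AtPrime p
  let A := Rp[X]
  let φ : B →+* A := (mapRingHom (algebraMap R Rp)).comp (e.symm : B →+* R[X])
  letI : Algebra B A := φ.toAlgebra
  let S : Submonoid B := (p.primeCompl.map (C : R →+* R[X])).map (e : R[X] →+* B)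
  haveI : IsLocalization S A := by
    letI : Algebra R[X] A := (mapRingHom (algebraMap R Rp)).toAlgebra
    haveI : IsLocalization (p.primeCompl.map (C : R →+* R[X])) A := Polynomial.isLocalization p.primeCompl Rp
    have h := IsLocalization.isLocalization_of_base_ringEquiv (p.primeCompl.map (C : R →+* R[X])) A e
    exact h
  have hinj : Function.Injective (algebraMap B A) := by
    refine (Polynomial.map_injective _ ?_).comp e.symm.injective
    exact IsLocalization.injective Rp p.primeCompl_le_nonZeroDivisors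
  haveI : Module.Free A (A ⊗[B] M) :=
    SwanSeminormLib.free_of_invertible (isSeminormalRing_localization p.primeCompl Rp hR) (A ⊗[B] M)
  obtain ⟨E⟩ := Module.Invertible.free_iff_linearEquiv.1 (inferInstance : Module.Free A (A ⊗[B] M))
  obtain ⟨s₀, hs₀, m, hm⟩ := exists_smul_eq_tmul S (E.symm 1)
  obtain ⟨v, hv⟩ := IsLocalization.map_units A (⟨s₀, hs₀⟩ : S)
  have hlt : Function.Injective fun a : M => (1 : A) ⊗ₜ[B] a := by
    have h := Module.Flat.rTensor_preserves_injective_linearMap (M := M) (Algebra.linearMap B A) hinj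
    have h' := h.comp (TensorProduct.lid B M).symm.injective
    exact fun a b hab => h' (by simpa using hab)
  have key : ∀ a : M, ∃ t : R, t ∉ p ∧ ∃ r : B, e (C t) • a = r • m := by
    intro a
    let c : A := E ((1 : A) ⊗ₜ[B] a) * ↑v⁻¹
    obtain ⟨⟨b, s, hs⟩, hb⟩ := IsLocalization.surj S c
    obtain ⟨q, hq, rfl⟩ := hs
    obtain ⟨t, ht, rfl⟩ := hq
    refine ⟨t, ht, b, hlt ?_⟩
    dsimp only at hb ⊢
    have hca : c • ((1 : A) ⊗ₜ[B] m) = (1 : A) ⊗ₜ[B] a := by
      rw [← hm, smul_smul, show algebraMap B A s₀ = ↑v from hv.symm, mul_assoc, Units.inv_mul, mul_one, ← map_smul,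
        smul_eq_mul, mul_one, E.symm_apply_apply]
    rw [TensorProduct.tmul_smul, TensorProduct.tmul_smul, ← algebraMap_smul A b, ← hb, mul_comm, mul_smul, hca,
      algebraMap_smul]
    rfl
  choose t ht r hr using key
  obtain ⟨F, hF⟩ := (inferInstance : Module.Finite B M).fg_top
  refine ⟨m, ∏ i ∈ F, t i, (Submonoid.prod_mem p.primeCompl fun i _ => ht i :), fun a => ?_⟩
  have ha : a ∈ Submodule.span B (F : Set M) := hF ▸ trivial
  induction ha using Submodule.span_induction with
  | mem x hx =>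
    refine ⟨e (C (∏ i ∈ F.erase x, t i)) * r x, ?_⟩
    rw [← Finset.prod_erase_mul F t hx, map_mul, map_mul, mul_smul, hr, mul_smul]
  | zero => exact ⟨0, by simp⟩
  | add x y _ _ hx hy =>
    obtain ⟨a, ha⟩ := hx
    obtain ⟨b, hb⟩ := hy
    exact ⟨a + b, by rw [smul_add, ha, hb, add_smul]⟩
  | smul c x _ hx =>
    obtain ⟨a, ha⟩ := hx
    exact ⟨c * a, by rw [smul_comm, ha, mul_smul]⟩

end Groth.Agent.PicA1Lib
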