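import Groth.Agent.CubeLib.Seesaw
import Groth.Agent.FlatLocus.ModInjFlat
import Groth.Agent.CurveLib.Inv
import Groth.Agent.S12080
import Groth.Agent.PicA1Lib.Alg

/-! Invertible sheaves on affine opens. -/

set_option autoImplicit false
set_option linter.all false
set_option backward.isDefEq.respectTransparency false

universe u

open CategoryTheory AlgebraicGeometry TopologicalSpace Opposite
open Groth.Agent.ParaFLib Groth.Agent.AmpleLib Groth.Agent.CohBase Groth.Agent.PullbackMod

noncomputable section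

namespace Groth.Agent.PicA1Lib

variable {X : Scheme.{u}}

theorem invertible_sections [IsLocallyNoetherian X] {P : X.Modules} (hP : PicF.IsInvertible P) {V : X.Opens}
    (hV : IsAffineOpen V) : Module.Invertible Γ(X, V) Γ(P, V) := by
  haveI := InvExt.isQCoh_of_isInvertible hP
  haveI : IsNoetherianRing Γ(X, V) := IsLocallyNoetherian.component_noetherian ⟨V, hV⟩
  haveI := QCohLib.finite_sections_of_isCoh (CurveLib.isCoh_of_isInvertible hP) hV
  haveI : Module.FinitePresentation Γ(X, V) Γ(P, V) := Module.finitePresentation_of_finite _ _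
  refine S12080.result _ _
    {f : Γ(X, V) | Nonempty (LocalizedModule.Away f Γ(P, V) ≃ₗ[Localization.Away f] Localization.Away f)} ?_ fun f hf => hf
  by_contra hne
  obtain ⟨q, hq, hle⟩ := Ideal.exists_le_maximal _ hne
  let Q : PrimeSpectrum Γ(X, V) := ⟨q, hq.isPrime⟩
  have hx : hV.fromSpec Q ∈ V := by
    have : hV.fromSpec Q ∈ Set.range hV.fromSpec := ⟨Q, rfl⟩
    rwa [hV.range_fromSpec] at this
  have hpr : hV.primeIdealOf ⟨hV.fromSpec Q, hx⟩ = Q :=
    hV.fromSpec.isOpenEmbedding.injective (hV.fromSpec_primeIdealOf _)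
  generalize hV.fromSpec Q = x at hx hpr
  letI := Module.compHom (P.presheaf.stalk x) (X.presheaf.germ V x hx).hom
  letI : Algebra Γ(X, V) (X.presheaf.stalk x) := TopCat.Presheaf.algebra_section_stalk X.presheaf ⟨x, hx⟩
  haveI : IsScalarTower Γ(X, V) (X.presheaf.stalk x) (P.presheaf.stalk x) := .of_algebraMap_smul fun _ _ => rfl
  let S := (hV.primeIdealOf ⟨x, hx⟩).asIdeal.primeCompl
  haveI : IsLocalization S (X.presheaf.stalk x) := hV.isLocalization_stalk ⟨x, hx⟩
  haveI : IsLocalizedModule S (Algebra.linearMap Γ(X, V) (X.presheaf.stalk x)) :=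
    isLocalizedModule_iff_isLocalization.mpr (by simpa using hV.isLocalization_stalk ⟨x, hx⟩)
  haveI : IsLocalizedModule S (FlatLocus.germL P V x hx) := FlatLocus.isLocalizedModule_germL P hV x hx
  obtain ⟨e, he⟩ := exists_stalk_gen hP x
  obtain ⟨⟨a, c⟩, hac⟩ := IsLocalizedModule.surj S (FlatLocus.germL P V x hx) e
  have hga : Function.Bijective fun r : X.presheaf.stalk x => r • FlatLocus.germL P V x hx a := by
    rw [← hac, show c • e = algebraMap Γ(X, V) (X.presheaf.stalk x) (c : Γ(X, V)) • e from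
      (algebraMap_smul (X.presheaf.stalk x) (c : Γ(X, V)) e).symm]
    exact (bijective_smul_iff he _).2 (IsLocalization.map_units _ c)
  let l := LinearMap.toSpanSingleton Γ(X, V) Γ(P, V) a
  have hmap : IsLocalizedModule.map S (Algebra.linearMap Γ(X, V) (X.presheaf.stalk x)) (FlatLocus.germL P V x hx) l =
      (LinearMap.toSpanSingleton (X.presheaf.stalk x) (P.presheaf.stalk x) (FlatLocus.germL P V x hx a)).restrictScalars
        Γ(X, V) := by
    refine IsLocalizedModule.linearMap_ext S (Algebra.linearMap Γ(X, V) (X.presheaf.stalk x))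
      (FlatLocus.germL P V x hx) (LinearMap.ext fun r => ?_)
    rw [LinearMap.comp_apply, LinearMap.comp_apply, IsLocalizedModule.map_apply]
    show FlatLocus.germL P V x hx (r • a) = algebraMap Γ(X, V) (X.presheaf.stalk x) r • FlatLocus.germL P V x hx a
    rw [map_smul, algebraMap_smul]
  obtain ⟨r, hr, hb⟩ := exists_bijective_map_powers S (Algebra.linearMap Γ(X, V) (X.presheaf.stalk x))
    (FlatLocus.germL P V x hx) l (by rw [hmap]; exact hga)
  have hb' := hb r dvd_rfl
  have : r ∈ q := hle (Ideal.subset_span ⟨(LinearEquiv.ofBijective _ hb').symm.trans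
    (LinearEquiv.extendScalarsOfIsLocalization (Submonoid.powers r) (Localization.Away r)
      (IsLocalizedModule.iso (Submonoid.powers r) (Algebra.linearMap Γ(X, V) (Localization.Away r))))⟩)
  apply hr
  rw [hpr]
  exact this

theorem gen_basicOpen_of_spread {P : X.Modules} (hP : PicF.IsInvertible P) {V : X.Opens} (hV : IsAffineOpen V)
    (m : Γ(P, V)) (s : Γ(X, V)) (h : ∀ a : Γ(P, V), ∃ r : Γ(X, V), s • a = r • m) :
    Gen (X.basicOpen s) (P.presheaf.map (homOfLE (X.basicOpen_le s)).op m) := by
  haveI := InvExt.isQCoh_of_isInvertible hP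
  refine gen_of_germ fun x hxs => ?_
  have hx : x ∈ V := X.basicOpen_le s hxs
  letI := Module.compHom (P.presheaf.stalk x) (X.presheaf.germ V x hx).hom
  haveI : IsLocalizedModule _ (FlatLocus.germL P V x hx) := FlatLocus.isLocalizedModule_germL P hV x hx
  obtain ⟨e, he⟩ := exists_stalk_gen hP x
  obtain ⟨⟨a, c⟩, hac⟩ := IsLocalizedModule.surj (hV.primeIdealOf ⟨x, hx⟩).asIdeal.primeCompl
    (FlatLocus.germL P V x hx) e
  obtain ⟨r, hr⟩ := h a
  obtain ⟨d, hd⟩ : ∃ d : X.presheaf.stalk x, d • e = FlatLocus.germL P V x hx m := he.2 _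
  rw [show P.presheaf.germ (X.basicOpen s) x hxs (P.presheaf.map (homOfLE (X.basicOpen_le s)).op m) =
    FlatLocus.germL P V x hx m from P.presheaf.germ_res_apply (homOfLE (X.basicOpen_le s)) x hxs m, ← hd]
  refine (bijective_smul_iff he d).2 ?_
  have h1 : (X.presheaf.germ V x hx s * X.presheaf.germ V x hx (c : Γ(X, V))) • e =
      (X.presheaf.germ V x hx r * d) • e := by
    have h2 := congrArg (FlatLocus.germL P V x hx) hr
    rw [map_smul, map_smul] at h2
    rw [mul_smul, mul_smul, hd]
    dsimp only at hac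
    rw [show X.presheaf.germ V x hx (c : Γ(X, V)) • e = FlatLocus.germL P V x hx a from hac]
    exact h2
  have hu : IsUnit (X.presheaf.germ V x hx r * d) := by
    rw [← he.1 h1]
    exact ((X.mem_basicOpen s x hx).1 hxs).mul
      ((X.mem_basicOpen _ x hx).1 ((PullbackMod.primeCompl_primeIdealOf hV x hx _).1 c.2))
  exact isUnit_of_mul_isUnit_right hu

end Groth.Agent.PicA1Lib
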