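import Groth.Agent.PicA1Lib.Geo
import Groth.Agent.UnitsAffSpace
import Groth.Agent.InvDescLib.Rig
import Groth.Agent.PicCurveSmoothLib.BaseChange

/-! `Pic X = Pic (X × 𝔸¹)` for a seminormal integral scheme. -/

set_option autoImplicit false
set_option linter.all false
set_option backward.isDefEq.respectTransparency false
set_option backward.defeqAttrib.useBackward true

universe u

open CategoryTheory CategoryTheory.Limits AlgebraicGeometry TopologicalSpace Opposite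
open Groth.Agent.CohBase Groth.Agent.PullbackMod Groth.Agent.ParaFLib Groth.Agent.AmpleLib Groth.Agent.CubeLib

noncomputable section

namespace Groth.Agent.PicA1Lib

variable {X Y : Scheme.{u}} (f : X ⟶ Y)

/-- Local triviality over the base and triviality along a section give triviality, when units come from the base. -/
theorem triv_of_section (hU : ∀ (O : Y.Opens) (r : Γ(X, f ⁻¹ᵁ O)), IsUnit r → ∃ r₀ : Γ(Y, O), f.app O r₀ = r)
    (σ : Y ⟶ X) (hσ : σ ≫ f = 𝟙 Y) {P : X.Modules} (hP : PicF.IsInvertible P)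
    (hloc : ∀ y : Y, ∃ U : Y.Opens, y ∈ U ∧ ∃ s : Γ(P, f ⁻¹ᵁ U), Gen (f ⁻¹ᵁ U) s)
    (hs : Triv ((Scheme.Modules.pullback σ).obj P)) : Triv P := by
  obtain ⟨τ, hτ⟩ := hs
  choose U hyU s₁ hs₁ using hloc
  have hle : ∀ V : Y.Opens, V ≤ σ ⁻¹ᵁ (f ⁻¹ᵁ V) := fun V z hz => by
    show (σ ≫ f) z ∈ V
    rw [hσ]
    exact hz
  choose a hau ha using fun y => (gen_pullMap σ hP (hs₁ y) (hle (U y))).exists_unit (hτ.res (le_top : U y ≤ ⊤))
  have hb : ∀ y, ∃ b : Γ(X, f ⁻¹ᵁ U y), IsUnit b ∧ pullMap σ P (hle (U y)) (b • s₁ y) = resT τ (U y) := fun y => by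
    obtain ⟨u, hu⟩ := hau y
    refine ⟨f.app (U y) (↑u⁻¹ : Γ(Y, U y)), (u⁻¹).isUnit.map _, ?_⟩
    rw [pullMap_smul]
    have e1 := appLE_app_section f σ hσ (U y) (hle (U y)) (↑u⁻¹ : Γ(Y, U y))
    rw [e1, show pullMap σ P (hle (U y)) (s₁ y) = a y • resT τ (U y) from (ha y).symm, ← mul_smul, ← hu,
      Units.inv_mul, one_smul]
  choose b hbu hb using hb
  let s : ∀ y, Γ(P, f ⁻¹ᵁ U y) := fun y => b y • s₁ y
  have hs : ∀ y, Gen (f ⁻¹ᵁ U y) (s y) := fun y => (hs₁ y).smul (hbu y)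
  have hcov : (⊤ : X.Opens) ≤ ⨆ y, f ⁻¹ᵁ U y := fun x _ =>
    Opens.mem_iSup.2 ⟨f x, show f x ∈ U (f x) from hyU _⟩
  obtain ⟨T, hT, -⟩ := TopCat.Sheaf.existsUnique_gluing' (⟨P.presheaf, P.isSheaf⟩ : TopCat.Sheaf Ab.{u} X.carrier)
    (fun y => f ⁻¹ᵁ U y) ⊤ (fun y => homOfLE le_top) hcov s (fun y z => by
      show P.presheaf.map (homOfLE inf_le_left).op (s y) = P.presheaf.map (homOfLE inf_le_right).op (s z)
      let O := U y ⊓ U z
      have hy := (hs y).res (f.preimage_mono inf_le_left : f ⁻¹ᵁ O ≤ f ⁻¹ᵁ U y)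
      have hz := (hs z).res (f.preimage_mono inf_le_right : f ⁻¹ᵁ O ≤ f ⁻¹ᵁ U z)
      obtain ⟨r, hru, hr⟩ := hy.exists_unit hz
      obtain ⟨r₀, rfl⟩ := hU O r hru
      have e1 := congrArg (pullMap σ P (hle O)) hr
      rw [pullMap_smul, ← pullMap_res σ P (hle (U y)) (f.preimage_mono inf_le_left) inf_le_left (hle O),
        ← pullMap_res σ P (hle (U z)) (f.preimage_mono inf_le_right) inf_le_right (hle O), hb, hb] at e1
      simp only [resT, res_res] at e1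
      have e2 : σ.appLE (f ⁻¹ᵁ O) O (hle O) (f.app O r₀) = 1 := by
        apply (hτ O le_top).1
        show _ • _ = (1 : Γ(Y, O)) • _
        rw [one_smul]
        exact e1
      have e3 : r₀ = 1 := (appLE_app_section f σ hσ O (hle O) r₀).symm.trans e2
      rw [e3, map_one, one_smul] at hr
      exact hr.symm)
  exact ⟨T, gen_of_cover (fun y => f ⁻¹ᵁ U y) (fun _ => le_top) hcov fun y => (hT y).symm ▸ hs y⟩

/-- The restriction to an open of the base of an affine line is an affine line. -/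
theorem exists_iso_restrict (ψ : X ≅ 𝔸(PUnit.{u + 1}; Y)) (hψ : ψ.hom ≫ 𝔸(PUnit.{u + 1}; Y) ↘ Y = f) (O : Y.Opens) :
    ∃ φ : (f ⁻¹ᵁ O : Scheme.{u}) ≅ 𝔸(PUnit.{u + 1}; (O : Scheme.{u})),
      φ.hom ≫ 𝔸(PUnit.{u + 1}; (O : Scheme.{u})) ↘ (O : Scheme.{u}) = f ∣_ O := by
  have h0 := (AffineSpace.isPullback_map (n := PUnit.{u + 1}) O.ι).flip
  have h1 : IsPullback (f ∣_ O) ((f ⁻¹ᵁ O).ι ≫ ψ.hom) O.ι (𝔸(PUnit.{u + 1}; Y) ↘ Y) :=
    (isPullback_morphismRestrict f O).of_iso (Iso.refl _) (Iso.refl _) ψ (Iso.refl _) (by simp) (by simp) (by simp)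
      (by simp [hψ])
  exact ⟨h1.isoIsPullback _ _ h0, h1.isoIsPullback_hom_fst _ _ h0⟩

theorem restrict_appTop_topIso (O : Y.Opens) :
    (f ∣_ O).appTop ≫ (f ⁻¹ᵁ O).topIso.hom = O.topIso.hom ≫ f.app O := by
  rw [morphismRestrict_appTop, Category.assoc, Scheme.Opens.topIso_hom, Scheme.Opens.topIso_hom]
  simp only [Scheme.Hom.app_eq_appLE, ← Functor.map_comp]
  erw [Scheme.Hom.appLE_map, Scheme.Hom.map_appLE]

/-- Units on an affine line over a reduced base come from the base. -/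
theorem exists_app_eq [IsReduced Y] (ψ : X ≅ 𝔸(PUnit.{u + 1}; Y)) (hψ : ψ.hom ≫ 𝔸(PUnit.{u + 1}; Y) ↘ Y = f)
    (O : Y.Opens) (r : Γ(X, f ⁻¹ᵁ O)) (hr : IsUnit r) : ∃ r₀ : Γ(Y, O), f.app O r₀ = r := by
  obtain ⟨φ, hφ⟩ := exists_iso_restrict f ψ hψ O
  have h := UnitsAffSpace.eq_pullback_zeroSec PUnit.{u + 1} (O : Scheme.{u})
    (φ.inv.appTop ((f ⁻¹ᵁ O).topIso.inv r)) ((hr.map _).map _)
  have h' := congrArg φ.hom.appTop h
  rw [← CommRingCat.comp_apply, ← Scheme.Hom.comp_appTop, hφ, ← CommRingCat.comp_apply φ.inv.appTop φ.hom.appTop,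
    ← Scheme.Hom.comp_appTop, φ.hom_inv_id, Scheme.Hom.id_appTop, CommRingCat.id_apply] at h'
  refine ⟨O.topIso.hom ((UnitsAffSpace.zeroSec PUnit.{u + 1} (O : Scheme.{u})).appTop
    (φ.inv.appTop ((f ⁻¹ᵁ O).topIso.inv r))), ?_⟩
  rw [← CommRingCat.comp_apply O.topIso.hom (f.app O), ← restrict_appTop_topIso, CommRingCat.comp_apply, h', Iso.inv_hom_id_apply]

/-- Functions on an affine line over an affine open are polynomials. -/
theorem exists_polynomial_equiv (ψ : X ≅ 𝔸(PUnit.{u + 1}; Y)) (hψ : ψ.hom ≫ 𝔸(PUnit.{u + 1}; Y) ↘ Y = f)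
    {W : Y.Opens} (hW : IsAffineOpen W) :
    ∃ e : Polynomial Γ(Y, W) ≃+* Γ(X, f ⁻¹ᵁ W), ∀ r, e (Polynomial.C r) = f.app W r := by
  haveI : IsAffine (W : Scheme.{u}) := hW
  obtain ⟨φ, hφ⟩ := exists_iso_restrict f ψ hψ W
  let Z := (W : Scheme.{u})
  have h : IsIso ((Scheme.ΓSpecIso (.of (MvPolynomial PUnit.{u + 1} Γ(Z, ⊤)))).hom ≫ CommRingCat.ofHom
      (MvPolynomial.eval₂Hom ((𝔸(PUnit.{u + 1}; Z) ↘ Z).appTop).hom (AffineSpace.coord Z))) := by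
    rw [← AffineSpace.isoOfIsAffine_hom_appTop]
    exact inferInstanceAs (IsIso ((AffineSpace.isoOfIsAffine PUnit.{u + 1} Z).hom.app ⊤))
  haveI : IsIso (CommRingCat.ofHom
      (MvPolynomial.eval₂Hom ((𝔸(PUnit.{u + 1}; Z) ↘ Z).appTop).hom (AffineSpace.coord Z))) :=
    IsIso.of_isIso_comp_left (Scheme.ΓSpecIso (.of (MvPolynomial PUnit.{u + 1} Γ(Z, ⊤)))).hom _
  let e₁ : Polynomial Γ(Y, W) ≃+* MvPolynomial PUnit.{u + 1} Γ(Z, ⊤) :=
    (Polynomial.mapEquiv W.topIso.symm.commRingCatIsoToRingEquiv).trans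
      (MvPolynomial.uniqueAlgEquiv Γ(Z, ⊤) PUnit.{u + 1}).symm.toRingEquiv
  let e₂ : MvPolynomial PUnit.{u + 1} Γ(Z, ⊤) ≃+* Γ(𝔸(PUnit.{u + 1}; Z), ⊤) :=
    (asIso (CommRingCat.ofHom
      (MvPolynomial.eval₂Hom ((𝔸(PUnit.{u + 1}; Z) ↘ Z).appTop).hom (AffineSpace.coord Z)))).commRingCatIsoToRingEquiv
  let e₃ : Γ(𝔸(PUnit.{u + 1}; Z), ⊤) ≃+* Γ(X, f ⁻¹ᵁ W) :=
    (asIso φ.hom.appTop ≪≫ (f ⁻¹ᵁ W).topIso).commRingCatIsoToRingEquiv
  refine ⟨e₁.trans (e₂.trans e₃), fun r => ?_⟩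
  have h₁ : e₁ (Polynomial.C r) = MvPolynomial.C (W.topIso.inv r) := by
    show (MvPolynomial.uniqueAlgEquiv Γ(Z, ⊤) PUnit.{u + 1}).symm
      (Polynomial.map (W.topIso.symm.commRingCatIsoToRingEquiv : Γ(Y, W) →+* Γ(Z, ⊤)) (Polynomial.C r)) = _
    rw [Polynomial.map_C]
    exact (MvPolynomial.uniqueAlgEquiv Γ(Z, ⊤) PUnit.{u + 1}).symm.commutes _
  show e₃ (e₂ (e₁ (Polynomial.C r))) = _
  rw [h₁]
  show (f ⁻¹ᵁ W).topIso.hom (φ.hom.appTop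
    (MvPolynomial.eval₂Hom ((𝔸(PUnit.{u + 1}; Z) ↘ Z).appTop).hom (AffineSpace.coord Z) (MvPolynomial.C (W.topIso.inv r)))) = _
  rw [MvPolynomial.eval₂Hom_C]
  change (f ⁻¹ᵁ W).topIso.hom (φ.hom.appTop ((𝔸(PUnit.{u + 1}; Z) ↘ Z).appTop (W.topIso.inv r))) = _
  rw [← CommRingCat.comp_apply _ φ.hom.appTop, ← Scheme.Hom.comp_appTop, hφ,
    ← CommRingCat.comp_apply (f ∣_ W).appTop, restrict_appTop_topIso, CommRingCat.comp_apply, Iso.inv_hom_id_apply]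

/-- On an affine line over a seminormal integral scheme an invertible module is trivial locally on the base. -/
theorem exists_gen_nhd [IsIntegral Y] [IsLocallyNoetherian Y] [IsLocallyNoetherian X] [IsAffineHom f]
    (ψ : X ≅ 𝔸(PUnit.{u + 1}; Y)) (hψ : ψ.hom ≫ 𝔸(PUnit.{u + 1}; Y) ↘ Y = f)
    (hY : HTop.IsSeminormal Y) {P : X.Modules} (hP : PicF.IsInvertible P) (y : Y) :
    ∃ U : Y.Opens, y ∈ U ∧ ∃ s : Γ(P, f ⁻¹ᵁ U), Gen (f ⁻¹ᵁ U) s := by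
  obtain ⟨⟨W, hW⟩, hy, hR⟩ := hY y
  change y ∈ W at hy
  haveI : Nonempty W := ⟨⟨y, hy⟩⟩
  haveI hV : IsAffineOpen (f ⁻¹ᵁ W) := hW.preimage f
  obtain ⟨e, he⟩ := exists_polynomial_equiv f ψ hψ hW
  haveI := invertible_sections hP hV
  obtain ⟨m, s, hs, h⟩ := exists_gen_spread hR (hW.primeIdealOf ⟨y, hy⟩).asIdeal e Γ(P, f ⁻¹ᵁ W)
  have hyD : y ∈ Y.basicOpen s := (PullbackMod.primeCompl_primeIdealOf hW y hy s).1 hs
  have hg := gen_basicOpen_of_spread hP hV m (f.app W s) fun a => by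
    obtain ⟨r, hr⟩ := h a
    exact ⟨r, by rw [← he]; exact hr⟩
  refine ⟨Y.basicOpen s, hyD, exists_gen_of_eq ?_ ⟨_, hg⟩⟩
  exact (Scheme.preimage_basicOpen f s).symm

/-- Pullback to an affine line over a seminormal integral scheme is bijective on Picard groups. -/
theorem bijOn_pullCl [IsIntegral Y] [IsLocallyNoetherian Y] [IsLocallyNoetherian X] [IsAffineHom f]
    (ψ : X ≅ 𝔸(PUnit.{u + 1}; Y)) (hψ : ψ.hom ≫ 𝔸(PUnit.{u + 1}; Y) ↘ Y = f) (hY : HTop.IsSeminormal Y) :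
    Set.BijOn (PicF.pullCl f) {c : PicF.Cl Y | PicF.IsInvertibleCl c} {c : PicF.Cl X | PicF.IsInvertibleCl c} := by
  let σ : Y ⟶ X := UnitsAffSpace.zeroSec PUnit.{u + 1} Y ≫ ψ.inv
  have hσ : σ ≫ f = 𝟙 Y := by
    simp only [σ, Category.assoc, ← hψ, Iso.inv_hom_id_assoc]
    exact UnitsAffSpace.zeroSec_over _ _
  refine ⟨fun c hc => PicCurveSmoothLib.isInvertibleCl_pullCl f hc, fun a _ b _ h => ?_, ?_⟩
  · have h' := congrArg (PicF.pullCl σ) h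
    rwa [PicCurveSmoothLib.pullCl_pullCl, PicCurveSmoothLib.pullCl_pullCl, hσ, PicCurveSmoothLib.pullCl_id,
      PicCurveSmoothLib.pullCl_id] at h'
  rintro _ ⟨L, rfl, hL⟩
  let M := (Scheme.Modules.pullback σ).obj L
  have hM : PicF.IsInvertible M := isInvertible_pullback σ hL
  obtain ⟨Q, hQ, hQc⟩ := PicLib.exists_cls (PicLib.cls hL * (PicLib.pull f (PicLib.cls hM))⁻¹)
  have hσQ : Triv ((Scheme.Modules.pullback σ).obj Q) := by
    refine triv_iff.2 ((PicLib.cls_eq_one (isInvertible_pullback σ hQ)).1 ?_)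
    rw [← PicLib.pull_cls σ hQ, hQc, map_mul, map_inv, ← PicLib.pull_comp, hσ, PicLib.pull_id, PicLib.pull_cls,
      mul_inv_cancel]
  have hQ1 : PicLib.cls hQ = 1 := (PicLib.cls_eq_one hQ).2 (triv_iff.1
    (triv_of_section f (exists_app_eq f ψ hψ) σ hσ hQ (exists_gen_nhd f ψ hψ hY hQ) hσQ))
  rw [hQc, mul_inv_eq_one, PicLib.pull_cls] at hQ1
  obtain ⟨i⟩ := (PicLib.cls_eq_cls _ _).1 hQ1
  exact ⟨PicF.cl M, ⟨M, rfl, hM⟩, Quot.sound ⟨i.symm⟩⟩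

end Groth.Agent.PicA1Lib
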